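/- S5227: `J` and the elementary abelian groups `Y5 e` are not essential. -/
import Cfsg.Agent.FUS.C1.Defs
import Cfsg.Agent.FUS.C1J.J2
import Cfsg.Agent.FUS.TransvEss
set_option autoImplicit false
set_option linter.unusedSimpArgs false

namespace CL.C1J
open Cfsg CL.Fus

/-- the linear representation of the automorphism group of an elementary abelian group -/
def rhoOf {E V : Type*} [Group E] [AddCommGroup V] [Module F V] (φ : E ≃* Multiplicative V) : MulAut E →* Module.End F V where
  toFun α := AddMonoidHom.toZModLinearMap 3 (AddMonoidHom.mk' (fun w => (φ (α (φ.symm (.ofAdd w)))).toAdd) fun x y => by simp)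
  map_one' := LinearMap.ext fun w => by simp
  map_mul' α β := LinearMap.ext fun w => by simp

theorem rhoOf_apply {E V : Type*} [Group E] [AddCommGroup V] [Module F V] (φ : E ≃* Multiplicative V) (α : MulAut E) (w : V) :
    rhoOf φ α w = (φ (α (φ.symm (.ofAdd w)))).toAdd := rfl

theorem rhoOf_inj {E V : Type*} [Group E] [AddCommGroup V] [Module F V] (φ : E ≃* Multiplicative V) :
    Function.Injective (rhoOf φ) := fun α β h => MulEquiv.ext fun x => by
  simpa [rhoOf_apply] using LinearMap.congr_fun h (φ x).toAdd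

abbrev V5 : Type := Fin 5 → F

def nu (s : F × F) (v : V5) : V5 := ![v 0 + s.1 * v 4, v 1 - s.1 * v 3 - s.2 * v 4, v 2 + s.2 * v 3, v 3, v 4]

theorem dual_ext {φ ψ : Module.Dual F V5} (h : ∀ i, φ (Pi.single i 1) = ψ (Pi.single i 1)) : φ = ψ :=
  (Pi.basisFun F (Fin 5)).ext fun i => by simpa using h i

theorem dual_apply (φ : Module.Dual F V5) (v : V5) : φ v = v 0 * φ (Pi.single 0 1) + v 1 * φ (Pi.single 1 1) +
    v 2 * φ (Pi.single 2 1) + v 3 * φ (Pi.single 3 1) + v 4 * φ (Pi.single 4 1) := by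
  rw [LinearMap.pi_apply_eq_sum_univ, Fin.sum_univ_five]
  simp only [smul_eq_mul]
  congr <;> funext j <;> simp [Pi.single_apply, eq_comm]

theorem no_se5 {G : Type*} [Group G] [Finite G] {ρ : G →* Module.End F V5} (hρ : Function.Injective ρ) {A H : Subgroup G}
    (hS : SE A H) {u : F × F → G} (hm : ∀ s, u s ∈ H) (hu : ∀ s v, ρ (u s) v = nu s v) : A ≤ H := by
  intro g hg
  by_contra hH
  have h3 : (3 : F) = 0 := rfl
  have ui : ∀ s v, ρ (u s)⁻¹ v = nu (-s) v := fun s v => by
    have : v = ρ (u s) (nu (-s) v) := by rw [hu]; funext i; fin_cases i <;> simp [nu]; ring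
    conv_lhs => rw [this, ← Module.End.mul_apply, ← map_mul, inv_mul_cancel, map_one, Module.End.one_apply]
  let σ : G →* Module.End F (Module.Dual F V5) := Representation.dual ρ
  have hs : ∀ x φ v, σ x φ v = φ (ρ x⁻¹ v) := fun _ _ _ => rfl
  have hσ : Function.Injective σ := fun x y h => inv_injective (hρ (LinearMap.ext fun v => funext fun i => by
    exact LinearMap.congr_fun (LinearMap.congr_fun h (LinearMap.proj i : Module.Dual F V5)) v))
  let ι : F × F →ₗ[F] Module.Dual F V5 := (LinearMap.fst F F F).smulRight (LinearMap.proj 3 : V5 →ₗ[F] F) +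
    (LinearMap.snd F F F).smulRight (LinearMap.proj 4 : V5 →ₗ[F] F)
  have hι : ∀ x v, ι x v = x.1 * v 3 + x.2 * v 4 := fun _ _ => rfl
  let π : Module.Dual F V5 →ₗ[F] F × F := (Module.Dual.eval F V5 (Pi.single 3 1)).prod (Module.Dual.eval F V5 (Pi.single 4 1))
  have hπ : ∀ φ, π φ = (φ (Pi.single 3 1), φ (Pi.single 4 1)) := fun _ => rfl
  have Q : QD σ H u ⊥ ι π :=
    { mem := hm
      ne := fun s hs e => hs (by
        have h1 := hu s (Pi.single 3 1)
        have h2 := hu s (Pi.single 4 1)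
        rw [e, map_one] at h1 h2
        exact Prod.ext (by simpa [nu] using (congrFun h2 0).symm) (by simpa [nu] using (congrFun h1 2).symm))
      cube := fun s => hρ (LinearMap.ext fun v => by
        rw [map_pow, pow_three, Module.End.mul_apply, Module.End.mul_apply, hu, hu, hu, map_one]
        funext i; fin_cases i <;> simp [nu]
        · linear_combination (s.1 * v 4) * h3
        · linear_combination (-s.1 * v 3 - s.2 * v 4) * h3
        · linear_combination (s.2 * v 3) * h3)
      fix := fun s v hv => by rw [(Submodule.mem_bot F).1 hv, map_zero]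
      im := fun s φ => (Submodule.mem_bot F).2 (dual_ext fun i => by
        simp only [LinearMap.sub_apply, hι, hπ, hs, ui, LinearMap.zero_apply, dual_apply φ (nu _ _)]
        fin_cases i <;> simp [nu])
      sq := fun s x => (Submodule.mem_bot F).2 (LinearMap.ext fun v => by simp [hs, ui, hι, nu])
      lin := fun s φ => by
        simp only [hπ, LinearMap.sub_apply, hs, ui, dual_apply φ (nu _ _)]
        ext <;> simp [nu] <;> ring1 }
  obtain ⟨τ, -, h2, hc, -, hn, hq⟩ := Q.main hσ hS hg (fun v hv => by rw [(Submodule.mem_bot F).1 hv, map_zero]; exact zero_mem _) hH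
  have ti : τ⁻¹ = τ := inv_eq_of_mul_eq_one_right (by rwa [← pow_two])
  have n3 : ∀ v, ρ τ v 3 = -v 3 := fun v => by
    have := LinearMap.congr_fun ((Submodule.mem_bot F).1 (hn (1, 0) 0)) v
    simp [hs, hι, ti] at this
    linear_combination this
  have n4 : ∀ v, ρ τ v 4 = -v 4 := fun v => by
    have := LinearMap.congr_fun ((Submodule.mem_bot F).1 (hn (0, 1) 0)) v
    simp [hs, hι, ti] at this
    linear_combination this
  have cm : ∀ s v, ρ τ (nu s v - v) = nu s (ρ τ v) - ρ τ v := fun s v => by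
    rw [map_sub, ← hu, ← hu, ← Module.End.mul_apply, ← map_mul, hc, map_mul, Module.End.mul_apply]
  have k : ∀ s (j i : Fin 5) (c : F), nu s (Pi.single j 1) - Pi.single j 1 = c • Pi.single i 1 → c * c = 1 →
      ρ τ (Pi.single i 1) = -Pi.single i 1 := fun s j i c e hc => by
    have h1 := cm s (Pi.single j 1)
    have h2 : nu s (ρ τ (Pi.single j 1)) - ρ τ (Pi.single j 1) = -(nu s (Pi.single j 1) - Pi.single j 1) := by
      funext l; fin_cases l <;> simp [nu, n3, n4, Matrix.vecHead, Matrix.vecTail] <;> ring1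
    rw [h2, e, map_smul] at h1
    have := congrArg (c • ·) h1
    simpa [smul_smul, hc] using this
  have k0 := k (1, 0) 4 0 1 (by decide) (by decide)
  have k1 := k (1, 0) 3 1 (-1) (by decide) (by decide)
  have k2 := k (0, 1) 3 2 1 (by decide) (by decide)
  have neg : ∀ v, ρ τ v = -v := fun v => by
    have e : ρ τ v + v = (ρ τ v + v) 0 • Pi.single 0 1 + (ρ τ v + v) 1 • Pi.single 1 1 + (ρ τ v + v) 2 • Pi.single 2 1 := by
      funext l; fin_cases l <;> simp [n3, n4]
    have e1 : ρ τ (ρ τ v + v) = -(ρ τ v + v) := by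
      rw [e]; simp only [map_add, map_smul, k0, k1, k2, smul_neg, neg_add]
    rw [map_add, ← Module.End.mul_apply, ← map_mul, ← pow_two, h2, map_one, Module.End.one_apply] at e1
    have e2 : (2 : F) • ((2 : F) • (ρ τ v + v)) = 0 := by
      rw [two_smul F (ρ τ v + v), ← eq_neg_iff_add_eq_zero.1 (add_comm v _ ▸ e1), eq_neg_iff_add_eq_zero.1 (add_comm v _ ▸ e1),
        smul_zero]
    rw [smul_smul, show (2 * 2 : F) = 1 from rfl, one_smul] at e2
    exact eq_neg_of_add_eq_zero_left e2
  have sj : Function.Surjective fun z : (F × F) × (F × F) => ι z.1 + σ g (ι z.2) := fun φ => by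
    obtain ⟨x, y, e⟩ := hq φ
    refine ⟨(x, y), ?_⟩
    rw [Submodule.mem_bot, sub_eq_zero] at e
    refine e.symm.trans (LinearMap.ext fun v => ?_)
    rw [LinearMap.sub_apply, hs, ti, neg, map_neg]
    linear_combination (-φ v) * h3
  have := Nat.card_le_card_of_surjective _ sj
  rw [Nat.card_congr (Pi.basisFun F (Fin 5)).toDualEquiv.toEquiv.symm] at this
  simp at this

end CL.C1J

namespace CL.C1F
open CL.Fus Subgroup Cfsg CL.C1J

variable {F : FusionSystem (⊤ : Subgroup U)}

/-- coordinates on `J` -/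
def eJ : sJ ≃* Multiplicative W where
  toFun x := .ofAdd ![x.1.p, -x.1.q, -x.1.r, x.1.u, -x.1.v, x.1.w]
  invFun v := ⟨jj (v.toAdd 0) (-v.toAdd 1) (-v.toAdd 2) (v.toAdd 3) (-v.toAdd 4) (v.toAdd 5), rfl, rfl, rfl⟩
  left_inv := by rintro ⟨x, hx⟩; msimp at hx; ext <;> simp [jj, hx]
  right_inv v := by
    apply Multiplicative.toAdd.injective
    funext i; fin_cases i <;> simp [jj]
  map_mul' := by
    rintro ⟨x, hx⟩ ⟨y, hy⟩
    msimp at hx hy
    rw [← ofAdd_add, MulMemClass.mk_mul_mk]
    usimp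
    simp [hx, add_comm]

theorem not_ess_J (hF : F.IsSaturated 3) : ¬ F.IsEssential 3 sJ := fun hE => by
  haveI : Fact (Nat.Prime 3) := ⟨by norm_num⟩
  obtain ⟨H, hH⟩ := exists_relSPE_of_essential pgT hF hE
  rw [inn_eq_bot_of_comm ⟨⟨fun x y => Subtype.ext (comm_J x.2 y.2)⟩⟩] at hH
  have n : ∀ g : U, g ∈ normalizer (sJ : Set U) := fun g => by rw [normalizer_eq_top]; trivial
  refine no_relSPE (rhoOf_inj eJ) (sylIn_of_fullyNormalized pgT hF hE.2.1) hH (cjAut_mem_autInducedBy (mem_top _) (n xa))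
    (cjAut_mem_autInducedBy (mem_top _) (n xb)) (fun v => ?_) fun v => ?_
  all_goals
    rw [rhoOf_apply]
    change ![_, _, _, _, _, _] = _
    simp only [cjAut_apply]
    change ![(cj _ (jj _ _ _ _ _ _)).p, -(cj _ (jj _ _ _ _ _ _)).q, -(cj _ (jj _ _ _ _ _ _)).r, (cj _ (jj _ _ _ _ _ _)).u,
      -(cj _ (jj _ _ _ _ _ _)).v, (cj _ (jj _ _ _ _ _ _)).w] = _
    msimp; usimp
    funext i; fin_cases i <;> simp [ma, mb]
  all_goals first | ring1 | linear_combination (-v 1) * three_eq | linear_combination (-v 3) * three_eq |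
    linear_combination (-v 4) * three_eq | linear_combination (-v 5) * three_eq

/-- coordinates on `Y5 e` -/
def eY (e : k3) : Y5 e ≃* Multiplicative V5 where
  toFun x := .ofAdd ![x.1.p - e * x.1.c * x.1.c, x.1.q - e * x.1.b * x.1.c, x.1.u - e * x.1.b * x.1.b, x.1.b, x.1.c]
  invFun v := ⟨⟨0, v.toAdd 3, v.toAdd 4, v.toAdd 0 + e * v.toAdd 4 * v.toAdd 4, v.toAdd 1 + e * v.toAdd 3 * v.toAdd 4,
    e * v.toAdd 4, v.toAdd 2 + e * v.toAdd 3 * v.toAdd 3, e * v.toAdd 3, 0⟩, rfl, rfl, rfl, rfl⟩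
  left_inv := by rintro ⟨x, hx⟩; msimp at hx; ext <;> simp [hx]
  right_inv v := by
    apply Multiplicative.toAdd.injective
    funext i; fin_cases i <;> simp
  map_mul' := by
    rintro ⟨x, hx⟩ ⟨y, hy⟩
    msimp at hx hy
    rw [← ofAdd_add, MulMemClass.mk_mul_mk]
    usimp
    congr 1
    funext i; fin_cases i <;> simp [hx, hy] <;> ring

theorem not_ess_Y5' (hF : F.IsSaturated 3) (e : k3) : ¬ F.IsEssential 3 (Y5 e) := fun hE => by
  haveI : Fact (Nat.Prime 3) := ⟨by norm_num⟩
  obtain ⟨H, hH⟩ := exists_relSPE_of_essential pgT hF hE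
  rw [inn_eq_bot_of_comm ⟨⟨fun x y => (eY e).injective (by rw [map_mul, map_mul, mul_comm])⟩⟩] at hH
  have hT := sylIn_of_fullyNormalized pgT hF hE.2.1
  have k : ∀ s t : k3, ∀ y ∈ Y5 e, cj (jj 0 0 s 0 t 0) y ∈ Y5 e := fun s t y hy => by
    msimp at *; usimp; simp [hy]
  have n : ∀ s : k3 × k3, jj 0 0 s.1 0 s.2 0 ∈ normalizer (Y5 e : Set U) := fun s =>
    mem_normalizer_fintype fun y hy => k _ _ y hy
  refine hH.2.1.not_ge (no_se5 (rhoOf_inj (eY e)) (se_of_relSPE hT hH) (u := fun s => cjAut _ _ (n s))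
    (fun s => hH.le hT.le (cjAut_mem_autInducedBy (mem_top _) (n s))) fun s v => ?_)
  rw [rhoOf_apply]
  change ![_, _, _, _, _] = _
  simp only [cjAut_apply]
  simp only [eY, MulEquiv.symm_mk, MulEquiv.coe_mk, Equiv.coe_fn_symm_mk]
  msimp; usimp
  funext i; fin_cases i <;> simp [nu]
  all_goals first | ring1 | linear_combination (-s.1 * v 4) * three_eq | linear_combination (-s.2 * v 3) * three_eq

end CL.C1F
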