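/- Homomorphisms from the model `U` of a Sylow 3-subgroup of `Co₁` (S5227). -/
import Cfsg.Agent.FUS.C1.Defs
import Cfsg.Agent.FGS.CyclicCrit
set_option autoImplicit false
set_option linter.unusedSimpArgs false

namespace CL.C1F
open CL.Fus Subgroup Cfsg

theorem mem_of_gens (M : Submonoid U) (x : U) (ha : x.a ≠ 0 → xa ∈ M) (hb : x.b ≠ 0 → xb ∈ M) (hc : x.c ≠ 0 → xc ∈ M)
    (hp : x.p ≠ 0 → xp ∈ M) (hq : x.q ≠ 0 → xq ∈ M) (hr : x.r ≠ 0 → xr ∈ M) (hu : x.u ≠ 0 → xu ∈ M)
    (hv : x.v ≠ 0 → xv ∈ M) (hw : x.w ≠ 0 → xw ∈ M) : x ∈ M := by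
  have k : ∀ (f : k3 → U) (t : k3), f 0 = 1 → f 2 = f 1 * f 1 → (t ≠ 0 → f 1 ∈ M) → f t ∈ M := fun f t h0 h2 h => by
    rcases k3_cases t with rfl | rfl | rfl
    · exact h0 ▸ M.one_mem
    · exact h (by decide)
    · exact h2 ▸ M.mul_mem (h (by decide)) (h (by decide))
  have e : x = jj x.p 0 0 0 0 0 * jj 0 x.q 0 0 0 0 * jj 0 0 x.r 0 0 0 * jj 0 0 0 x.u 0 0 * jj 0 0 0 0 x.v 0 *
      jj 0 0 0 0 0 x.w * tt 0 0 x.c * tt 0 x.b 0 * tt x.a 0 0 := by
    msimp; usimp; simp
  rw [e]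
  exact M.mul_mem (M.mul_mem (M.mul_mem (M.mul_mem (M.mul_mem (M.mul_mem (M.mul_mem (M.mul_mem
    (k (jj · 0 0 0 0 0) _ rfl (by decide) hp) (k (jj 0 · 0 0 0 0) _ rfl (by decide) hq))
    (k (jj 0 0 · 0 0 0) _ rfl (by decide) hr)) (k (jj 0 0 0 · 0 0) _ rfl (by decide) hu))
    (k (jj 0 0 0 0 · 0) _ rfl (by decide) hv)) (k (jj 0 0 0 0 0 ·) _ rfl (by decide) hw))
    (k (tt 0 0 ·) _ rfl (by decide) hc)) (k (tt 0 · 0) _ rfl (by decide) hb)) (k (tt · 0 0) _ rfl (by decide) ha)

variable {G : Type*} [Group G]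

theorem pow_val_add {g : G} (h : g * g * g = 1) (s t : k3) : g ^ (s + t).val = g ^ s.val * g ^ t.val := by
  rw [← pow_add, ZMod.val_add, ← pow_eq_pow_mod _ (by rw [pow_three', h])]

theorem val_one' : (1 : k3).val = 1 := rfl

/-- the word of an element -/
def wd (a b c p q r u v w : G) (x : U) : G :=
  p ^ x.p.val * q ^ x.q.val * r ^ x.r.val * u ^ x.u.val * v ^ x.v.val * w ^ x.w.val * (c ^ x.c.val * b ^ x.b.val * a ^ x.a.val)

section
variable {K : Type*} [CommGroup K] {P Q R T V W : K}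

/-- the `J`-part of a word -/
def nn (P Q R T V W : K) (x : U) : K := P ^ x.p.val * Q ^ x.q.val * R ^ x.r.val * T ^ x.u.val * V ^ x.v.val * W ^ x.w.val

variable (P3 : P * P * P = 1) (Q3 : Q * Q * Q = 1) (R3 : R * R * R = 1) (T3 : T * T * T = 1) (V3 : V * V * V = 1)
  (W3 : W * W * W = 1)
include P3 Q3 R3

theorem nn_a (x : U) : nn P Q R T V W (xa * x) = nn P (P * P * Q) R (P * Q * T) (R * V) W x := by
  simp only [nn]; msimp; usimp
  simp only [mul_zero, zero_mul, add_zero, zero_add, mul_one, one_mul, two_mul, add_mul, pow_val_add P3, pow_val_add Q3,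
    pow_val_add R3, mul_pow]
  apply Additive.ofMul.injective; simp only [ofMul_mul]; abel

theorem nn_c (x : U) : nn P Q R T V W (xc * x) = nn P Q (P * P * R) T (Q * V) (P * R * W) x := by
  simp only [nn]; msimp; usimp
  simp only [mul_zero, zero_mul, add_zero, zero_add, mul_one, one_mul, two_mul, add_mul, pow_val_add P3, pow_val_add Q3,
    pow_val_add R3, mul_pow]
  apply Additive.ofMul.injective; simp only [ofMul_mul]; abel

omit P3 R3 in
include T3 V3 in
theorem nn_b (x : U) : nn P Q R T V W (xb * x) = nn P Q (Q * R) T (T * T * V) (T * V * W) x := by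
  simp only [nn]; msimp; usimp
  simp only [mul_zero, zero_mul, add_zero, zero_add, mul_one, one_mul, two_mul, add_mul, pow_val_add T3, pow_val_add Q3,
    pow_val_add V3, mul_pow]
  apply Additive.ofMul.injective; simp only [ofMul_mul]; abel

include T3 V3 W3 in
theorem nn_J {y : U} (hy : y ∈ sJ) (x : U) : nn P Q R T V W (y * x) = nn P Q R T V W y * nn P Q R T V W x := by
  simp only [nn]; msimp at hy; usimp
  simp only [hy, mul_zero, zero_mul, add_zero, pow_val_add P3, pow_val_add Q3, pow_val_add R3, pow_val_add T3,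
    pow_val_add V3, pow_val_add W3]
  apply Additive.ofMul.injective; simp only [ofMul_mul]; abel

end

theorem Rel.exists_hom {a b c p q r u v w : G} (h : Rel a b c p q r u v w) : ∃ ι : U →* G,
    ι xa = a ∧ ι xb = b ∧ ι xc = c ∧ ι xp = p ∧ ι xq = q ∧ ι xr = r ∧ ι xu = u ∧ ι xv = v ∧ ι xw = w := by
  let s : Set G := {x | x ∈ [p, q, r, u, v, w]}
  have hs : ∀ x ∈ s, ∀ y ∈ s, x * y = y * x := fun x hx y hy =>
    haveI : Std.Symm fun x y : G => x * y = y * x := ⟨fun _ _ => Eq.symm⟩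
    List.Pairwise.forall_of_forall (R := fun x y : G => x * y = y * x) (fun _ _ => rfl) h.cm hx hy
  letI := closureCommGroupOfComm hs
  let P : closure s := ⟨p, subset_closure (by simp [s])⟩
  let Q : closure s := ⟨q, subset_closure (by simp [s])⟩
  let R : closure s := ⟨r, subset_closure (by simp [s])⟩
  let T : closure s := ⟨u, subset_closure (by simp [s])⟩
  let V : closure s := ⟨v, subset_closure (by simp [s])⟩
  let W : closure s := ⟨w, subset_closure (by simp [s])⟩
  have P3 : P * P * P = 1 := Subtype.ext h.p3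
  have Q3 : Q * Q * Q = 1 := Subtype.ext h.q3
  have R3 : R * R * R = 1 := Subtype.ext h.r3
  have T3 : T * T * T = 1 := Subtype.ext h.u3
  have V3 : V * V * V = 1 := Subtype.ext h.v3
  have W3 : W * W * W = 1 := Subtype.ext h.w3
  let n : U → closure s := nn P Q R T V W
  let m : U → G := fun x => c ^ x.c.val * b ^ x.b.val * a ^ x.a.val
  have e : ∀ x, wd a b c p q r u v w x = n x * m x := fun x => rfl
  have act : ∀ (g : G) (p' q' r' u' v' w' : closure s), g * p = p' * g → g * q = q' * g → g * r = r' * g → g * u = u' * g →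
      g * v = v' * g → g * w = w' * g → ∀ x : U, g * n x = nn p' q' r' u' v' w' x * g :=
    fun g p' q' r' u' v' w' h1 h2 h3 h4 h5 h6 x =>
      (((((SemiconjBy.pow_right h1 _).mul_right (SemiconjBy.pow_right h2 _)).mul_right (SemiconjBy.pow_right h3 _)).mul_right
        (SemiconjBy.pow_right h4 _)).mul_right (SemiconjBy.pow_right h5 _)).mul_right (SemiconjBy.pow_right h6 _)
  have hJ : ∀ y ∈ sJ, ∀ x, wd a b c p q r u v w (y * x) = wd a b c p q r u v w y * wd a b c p q r u v w x := fun y hy x => by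
    have e1 : n (y * x) = n y * n x := nn_J P3 Q3 R3 T3 V3 W3 hy x
    have e2 : m (y * x) = m x := by simp only [m]; msimp at hy; usimp; simp [hy]
    have e3 : m y = 1 := by simp only [m]; msimp at hy; simp [hy]
    rw [e, e, e, e1, e2, e3, mul_one, coe_mul, mul_assoc]
  have ga : wd a b c p q r u v w xa = a := by simp [wd, xa, tt, val_one']
  have gb : wd a b c p q r u v w xb = b := by simp [wd, xb, tt, val_one']
  have gc : wd a b c p q r u v w xc = c := by simp [wd, xc, tt, val_one']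
  have hc : ∀ x, wd a b c p q r u v w (xc * x) = c * wd a b c p q r u v w x := fun x => by
    rw [e, e, ← mul_assoc c, act c P Q (P * P * R) T (Q * V) (P * R * W) h.cJ.1 h.cJ.2.1 h.cJ.2.2.1 h.cJ.2.2.2.1 h.cJ.2.2.2.2.1
      h.cJ.2.2.2.2.2, mul_assoc _ c]
    congr 1
    · exact congrArg _ (nn_c P3 Q3 R3 x)
    · simp only [m]; msimp; usimp
      simp only [mul_zero, zero_mul, add_zero, zero_add, pow_val_add h.c3, val_one', pow_one, mul_assoc]
  have hb : ∀ x, wd a b c p q r u v w (xb * x) = b * wd a b c p q r u v w x := fun x => by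
    rw [e, e, ← mul_assoc b, act b P Q (Q * R) T (T * T * V) (T * V * W) h.bJ.1 h.bJ.2.1 h.bJ.2.2.1 h.bJ.2.2.2.1 h.bJ.2.2.2.2.1
      h.bJ.2.2.2.2.2, mul_assoc _ b]
    congr 1
    · exact congrArg _ (nn_b Q3 T3 V3 x)
    · simp only [m]; msimp; usimp
      simp only [mul_zero, zero_mul, add_zero, zero_add, pow_val_add h.b3, val_one', pow_one, ← mul_assoc,
        (Commute.pow_right h.bc _).eq]
  have ha : ∀ x, wd a b c p q r u v w (xa * x) = a * wd a b c p q r u v w x := fun x => by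
    rw [e, e, ← mul_assoc a, act a P (P * P * Q) R (P * Q * T) (R * V) W h.aJ.1 h.aJ.2.1 h.aJ.2.2.1 h.aJ.2.2.2.1 h.aJ.2.2.2.2.1
      h.aJ.2.2.2.2.2, mul_assoc _ a]
    congr 1
    · exact congrArg _ (nn_a P3 Q3 R3 x)
    · simp only [m]; msimp; usimp
      have := (SemiconjBy.pow_right (a := a) h.ab x.b.val).eq
      rw [(Commute.symm h.bc).mul_pow] at this
      simp only [mul_zero, zero_mul, add_zero, zero_add, one_mul, pow_val_add h.a3, pow_val_add h.c3, val_one', pow_one,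
        ← mul_assoc, (Commute.pow_right h.ac _).eq]
      simp only [mul_assoc] at this ⊢
      rw [← mul_assoc a (b ^ _), this]
      simp only [mul_assoc]
  let M : Submonoid U :=
    { carrier := {y | ∀ x, wd a b c p q r u v w (y * x) = wd a b c p q r u v w y * wd a b c p q r u v w x}
      one_mem' := hJ 1 (one_mem _)
      mul_mem' := fun {y z} hy hz x => by rw [mul_assoc, hy, hz, hy, mul_assoc] }
  refine ⟨MonoidHom.mk' (wd a b c p q r u v w) fun y => mem_of_gens M y (fun _ x => ga.symm ▸ ha x) (fun _ x => gb.symm ▸ hb x)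
    (fun _ x => gc.symm ▸ hc x) (fun _ => hJ _ (by decide)) (fun _ => hJ _ (by decide)) (fun _ => hJ _ (by decide))
    (fun _ => hJ _ (by decide)) (fun _ => hJ _ (by decide)) (fun _ => hJ _ (by decide)), ga, gb, gc, ?_⟩
  simp [wd, xp, xq, xr, xu, xv, xw, jj, val_one']

theorem hom_eq_wd (ι : U →* G) (x : U) :
    ι x = wd (ι xa) (ι xb) (ι xc) (ι xp) (ι xq) (ι xr) (ι xu) (ι xv) (ι xw) x := by
  obtain ⟨κ, h⟩ : ∃ κ : U → U, ∀ x, κ x = wd xa xb xc xp xq xr xu xv xw x := ⟨_, fun _ => rfl⟩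
  have k : ∀ (f : k3 → U) (t : k3), f 0 = 1 → f 2 = f 1 * f 1 → f 1 ^ t.val = f t := fun f t h0 h2 => by
    rcases k3_cases t with rfl | rfl | rfl
    · exact h0.symm
    · exact pow_one _
    · exact (pow_two _).trans h2.symm
  have e : wd xa xb xc xp xq xr xu xv xw x = x := by
    rw [wd, xa, xb, xc, xp, xq, xr, xu, xv, xw, k (jj · 0 0 0 0 0) _ rfl (by decide), k (jj 0 · 0 0 0 0) _ rfl (by decide),
      k (jj 0 0 · 0 0 0) _ rfl (by decide), k (jj 0 0 0 · 0 0) _ rfl (by decide), k (jj 0 0 0 0 · 0) _ rfl (by decide),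
      k (jj 0 0 0 0 0 ·) _ rfl (by decide), k (tt 0 0 ·) _ rfl (by decide), k (tt 0 · 0) _ rfl (by decide),
      k (tt · 0 0) _ rfl (by decide)]
    msimp; usimp; simp
  conv_lhs => rw [← e]
  simp only [wd, map_mul, map_pow]

theorem mem_Z_of_comm {x : U} (h : ∀ y, y * x = x * y) : x ∈ sZ := by
  have h0 := mem_J_of_comm (h xw).symm (h xv).symm
  have h1 := h xa
  have h2 := h xb
  have h3 := h xc
  msimp at *; usimp at h1 h2 h3
  simp only [h0, mul_zero, zero_mul, add_zero, zero_add, mul_one, one_mul] at h1 h2 h3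
  have hw : x.w = 0 := by linear_combination h3.2.2.2.2.2.1
  have hv : x.v = 0 := by linear_combination h1.2.2.2.2.2.1
  have hu : x.u = 0 := by linear_combination h1.2.2.2.2.1
  refine ⟨h0.1, h0.2.1, h0.2.2, ?_, by linear_combination h2.2.2.2.2.1, hu, hv, hw⟩
  linear_combination (-1) * h1.2.2.2.1 + hu + x.q * three_eq

theorem xp_eq : xp = jj 2 0 0 0 0 0 * jj 2 0 0 0 0 0 := by decide

theorem inj_of' {ι : U →* G} (h : ι xp ≠ 1) : Function.Injective ι := by
  refine (MonoidHom.ker_eq_bot_iff ι).1 (by_contra fun h1 => ?_)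
  haveI : Fact (Nat.Prime 3) := ⟨by norm_num⟩
  haveI := pgU.isNilpotent
  obtain ⟨z, z1, z3, z2⟩ := CL.FGS.exists_mem_center_of_normal_ne_bot ι.ker h1
  have hz := mem_Z_of_comm (mem_center_iff.1 z2)
  have e : z = jj z.p 0 0 0 0 0 := by msimp at *; usimp; simp [hz]
  rcases k3_cases z.p with e1 | e1 | e1 <;> rw [e1] at e
  · exact z3 e
  · exact h (e ▸ z1 :)
  · refine h ?_
    rw [show xp = z * z by rw [e]; exact xp_eq, map_mul, MonoidHom.mem_ker.1 z1, mul_one]

/-- `n` induces `f` on `P` if it does so on the root elements -/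
theorem ind_of_gens' {ι : U →* G} {P : Subgroup U} {f : U → U} (hf : IsHomOn P f) (n : G) {L : List U}
    (hL : ∀ x ∈ L, x ∈ P ∧ n * ι x = ι (f x) * n)
    (hP : ∀ M : Submonoid U, (∀ x ∈ L, x ∈ M) → ∀ x ∈ P, x ∈ M) : Ind ι P f := by
  let M : Submonoid U :=
    { carrier := {x | x ∈ P ∧ n * ι x = ι (f x) * n}
      one_mem' := ⟨one_mem _, by simp [hf.map_one]⟩
      mul_mem' := fun {x y} hx hy => ⟨mul_mem hx.1 hy.1, by
        rw [map_mul, hf hx.1 hy.1, map_mul, ← mul_assoc, hx.2, mul_assoc, hy.2, mul_assoc]⟩ }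
  exact ⟨n, fun x hx => by rw [(hP M hL x hx).2, mul_inv_cancel_right]⟩

theorem gens_top (M : Submonoid U) (h : ∀ x ∈ [xa, xb, xc, xp, xq, xr, xu, xv, xw], x ∈ M) : ∀ x ∈ (⊤ : Subgroup U), x ∈ M :=
  fun x _ => by apply mem_of_gens <;> exact fun _ => h _ (by simp)

theorem gens_E1 (M : Submonoid U) (h : ∀ x ∈ [xb, xc, xp, xq, xr, xu, xv, xw], x ∈ M) : ∀ x ∈ E1, x ∈ M :=
  fun x hx => by apply mem_of_gens <;> first | exact fun e => (e hx).elim | exact fun _ => h _ (by simp)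

theorem gens_E2 (M : Submonoid U) (h : ∀ x ∈ [xa, xc, xp, xq, xr, xu, xv, xw], x ∈ M) : ∀ x ∈ E2, x ∈ M :=
  fun x hx => by apply mem_of_gens <;> first | exact fun e => (e hx).elim | exact fun _ => h _ (by simp)

theorem gens_E3 (M : Submonoid U) (h : ∀ x ∈ [xa, xb, xc, xp, xq, xr, xu, xv], x ∈ M) : ∀ x ∈ E3, x ∈ M :=
  fun x hx => by apply mem_of_gens <;> first | exact fun e => (e hx).elim | exact fun _ => h _ (by simp)

theorem gens_J (M : Submonoid U) (h : ∀ x ∈ [xp, xq, xr, xu, xv, xw], x ∈ M) : ∀ x ∈ sJ, x ∈ M :=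
  fun x hx => by
    apply mem_of_gens <;> first | exact fun e => (e hx.1).elim | exact fun e => (e hx.2.1).elim | exact fun e => (e hx.2.2).elim |
      exact fun _ => h _ (by simp)

end CL.C1F
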